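import Groth.Agent.StalkSpreadLib.Main
import Groth.Agent.SurfExtLib.CBIdeal
import Groth.Agent.NodalLib.NodalChar
import Groth.Agent.NodalLib.NodeFacts
import Groth.Agent.KleimanLib.GenSmooth
import Groth.Agent.DevissLib.Basic
import Groth.Agent.CurveSDLib.Main

/-!
# The local form of a torsion free sheaf near a node
-/

set_option autoImplicit false
set_option linter.style.haveILetI false
set_option maxHeartbeats 1000000
universe u

open CategoryTheory CategoryTheory.Limits AlgebraicGeometry TopologicalSpace Opposite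
open CohCmpLib (stk)

noncomputable section

namespace NodeSpreadLib

variable {X : Scheme.{u}}

/-- The stalk of the ideal of a closed point. -/
theorem nonempty_stalk_ptIdeal {x : X} (hx : IsClosed ({x} : Set X)) :
    Nonempty ((DerSch.stalkFunctor X x).obj
      (ClSub.idealMod (Scheme.IdealSheafData.vanishingIdeal (⟨{x}, hx⟩ : Closeds X))) ≃ₗ[X.presheaf.stalk x]
        IsLocalRing.maximalIdeal (X.presheaf.stalk x)) := by
  classical
  have hT : IsClosed (({x} : Finset X) : Set X) := by rw [Finset.coe_singleton]; exact hx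
  have e : (⟨{x}, hx⟩ : Closeds X) = ⟨(({x} : Finset X) : Set X), hT⟩ :=
    Closeds.ext (Finset.coe_singleton x).symm
  rw [e]
  let ι₀ := ClSub.idealModι (SurfExtLib.ptsI ({x} : Finset X) hT)
  haveI : Mono ι₀ := inferInstanceAs (Mono (kernel.ι _))
  let ψ := ((DerSch.stalkFunctor X x).map ι₀).hom
  have hψ : Function.Injective ψ :=
    (ModuleCat.mono_iff_injective ((DerSch.stalkFunctor X x).map ι₀)).mp inferInstance
  let θ : IsLocalRing.maximalIdeal (X.presheaf.stalk x) →ₗ[X.presheaf.stalk x]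
      (DerSch.stalkFunctor X x).obj (Coh.structureModule X) :=
    (LinearMap.toSpanSingleton (X.presheaf.stalk x) _ (SurfExtLib.oneAt x)) ∘ₗ Submodule.subtype _
  have hθ : Function.Injective θ := fun a b h => Subtype.ext (SurfExtLib.smul_oneAt_injective x h)
  have hr : LinearMap.range ψ = LinearMap.range θ := by
    refine le_antisymm ?_ ?_
    · rintro _ ⟨a, rfl⟩
      obtain ⟨c, hc⟩ := SurfExtLib.exists_smul_oneAt x (FLI.sMap ι₀ x a)
      exact ⟨⟨c, SurfExtLib.value_mem _ hT (Finset.mem_singleton_self x) a c hc.symm⟩, hc⟩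
    · rintro _ ⟨c, rfl⟩
      obtain ⟨a, ha⟩ := SurfExtLib.exists_value _ hT
        (fun t ht => by rw [Finset.mem_singleton.mp ht]; exact hx) x c.1 (fun _ => c.2)
      exact ⟨a, ha⟩
  exact ⟨(LinearEquiv.ofInjective ψ hψ) ≪≫ₗ LinearEquiv.ofEq _ _ hr ≪≫ₗ (LinearEquiv.ofInjective θ hθ).symm⟩

/-- The stalk of a sum. -/
theorem nonempty_stalk_sum (P Q : X.Modules) (a b : ℕ) (x : X) :
    Nonempty ((DerSch.stalkFunctor X x).obj ((∐ fun _ : Fin a => P) ⨿ (∐ fun _ : Fin b => Q)) ≃ₗ[X.presheaf.stalk x]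
      (Fin a → (DerSch.stalkFunctor X x).obj P) × (Fin b → (DerSch.stalkFunctor X x).obj Q)) := by
  let St := DerSch.stalkFunctor X x
  haveI : St.Additive := inferInstance
  let e₀ : (∐ fun _ : Fin a => P) ⨿ (∐ fun _ : Fin b => Q) ≅ (⨁ fun _ : Fin a => P) ⊞ (⨁ fun _ : Fin b => Q) :=
    coprod.mapIso (biproduct.isoCoproduct _).symm (biproduct.isoCoproduct _).symm ≪≫ (biprod.isoCoprod _ _).symm
  haveI := preservesBinaryBiproducts_of_preservesBiproducts St
  exact ⟨(St.mapIso e₀ ≪≫ St.mapBiprod _ _ ≪≫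
    biprod.mapIso (St.mapBiproduct _ ≪≫ ModuleCat.biproductIsoPi _) (St.mapBiproduct _ ≪≫ ModuleCat.biproductIsoPi _) ≪≫
      ModuleCat.biprodIsoProd _ _).toLinearEquiv⟩

variable (k : Type u) [Field k] [IsAlgClosed k] [X.Over (Spec (CommRingCat.of k))]
  [IsProper (X ↘ Spec (CommRingCat.of k))]

/-- A node has a neighbourhood containing no other node. -/
theorem exists_nhd_node (hdim : topologicalKrullDim X ≤ 1) (hnod : Curv2.AtWorstNodal k X) {x : X}
    (hx : IsClosed ({x} : Set X)) :
    ∃ W : X.Opens, x ∈ W ∧ ∀ y ∈ W, Curv2.IsNode k X y → y = x := by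
  haveI := CurvLib.isNoetherian k (X := X)
  haveI := NodalLib.lfp_over k (X := X)
  let f := X ↘ Spec (CommRingCat.of k)
  let Z : Set X := (f.smoothLocus : Set X)ᶜ
  have hZ : IsClosed Z := f.smoothLocus.isOpen.isClosed_compl
  have hpt : ∀ z ∈ Z, IsClosed ({z} : Set X) := fun z hz => by
    rcases NodalLib.forall_of_atWorstNodal k hdim hnod z with h | h
    · exact absurd ((NodalLib.smooth_nhd_iff f z).1 h) hz
    · by_contra hc
      obtain ⟨y, hy, hzy⟩ := MiscFlat6.exists_closed_specializes z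
      refine hz ?_
      have hd : ringKrullDim (X.presheaf.stalk z) = 0 := by
        have h1 := (FibDimLib.ringKrullDim_stalk_lt hzy fun e => hc (e ▸ hy)).trans_le
          ((DimIneqLib.stalk_dim_le_dim y).trans hdim)
        refine le_antisymm ?_ ringKrullDim_nonneg_of_nontrivial
        revert h1
        cases ringKrullDim (X.presheaf.stalk z) with
        | bot => simp
        | coe v =>
          intro h1
          exact_mod_cast (ENat.lt_one_iff_eq_zero.1 (by exact_mod_cast h1)).le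
      exact NodalLib.mem_smoothLocus_of_dim_zero k (NodalLib.geometricallyReduced k hnod)
        (NodalLib.isReduced k hnod) z hd
  have hfin : Z.Finite := by
    obtain ⟨C, hCfin, hCc, hCi, hSC⟩ := TopologicalSpace.NoetherianSpace.exists_finite_set_isClosed_irreducible hZ
    rw [hSC]
    refine hCfin.sUnion fun t ht => ?_
    obtain ⟨η, hη⟩ := QuasiSober.sober (hCi t ht) (hCc t ht)
    have hηt : η ∈ t := hη.def ▸ subset_closure (Set.mem_singleton η)
    have := hpt η (hSC ▸ Set.mem_sUnion_of_mem hηt ht)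
    refine (Set.finite_singleton η).subset fun w hw => ?_
    rw [← this.closure_eq]
    exact hη.def.symm ▸ hw
  have hcl : IsClosed (Z \ {x}) := by
    rw [← Set.biUnion_of_singleton (Z \ {x})]
    exact (hfin.subset Set.sdiff_subset).isClosed_biUnion fun z hz => hpt z hz.1
  refine ⟨⟨(Z \ {x})ᶜ, hcl.isOpen_compl⟩, fun h => h.2 rfl, fun y hy hn => ?_⟩
  by_contra hne
  refine hy ⟨fun hs => ?_, hne⟩
  obtain ⟨U, hyU, hU⟩ := (NodalLib.smooth_nhd_iff f y).2 hs
  haveI := hU
  haveI := KleimanLib.regular_of_smooth (U.ι ≫ f) (⟨y, hyU⟩ : U)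
  exact NodalLib.not_regular_node k hn
    (IsRegularLocalRing.of_ringEquiv (asIso (U.ι.stalkMap ⟨y, hyU⟩)).commRingCatIsoToRingEquiv.symm)

theorem isCoh_coprod [IsLocallyNoetherian X] {P Q : X.Modules} (hP : Coh.IsCoh P) (hQ : Coh.IsCoh Q) (a b : ℕ) :
    Coh.IsCoh ((∐ fun _ : Fin a => P) ⨿ (∐ fun _ : Fin b => Q)) :=
  QCohLib.isCoh_of_iso
    ((biprod.isoCoprod _ _) ≪≫ coprod.mapIso (biproduct.isoCoproduct _) (biproduct.isoCoproduct _))
    (DevissLib.isCoh_biprod (CurveSDLib.isCoh_biproduct fun _ => hP) (CurveSDLib.isCoh_biproduct fun _ => hQ))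

end NodeSpreadLib

end
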